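import Mathlib

set_option autoImplicit false
set_option linter.unusedSectionVars false
set_option linter.style.haveILetI false

/-!
# Transvection automorphisms of an extraspecial 2-group
-/

namespace Cfsg.Agent.Lib.Helper5.Xaut

variable {Q : Type*} [Group Q]

/-- the properties of an extraspecial 2-group with central involution `z` that we use -/
structure XS (z : Q) : Prop where
  hz1 : z ≠ 1
  hzc : ∀ x : Q, x * z = z * x
  cen : ∀ w : Q, (∀ x : Q, x * w = w * x) → w = 1 ∨ w = z
  sq : ∀ x : Q, x * x = 1 ∨ x * x = z
  comm : ∀ x y : Q, x * y = y * x ∨ x * y = z * (y * x)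

namespace XS

variable {z : Q} (h : XS z)
include h

theorem zz : z * z = 1 := by
  rcases h.sq z with h1 | h1
  · exact h1
  · exfalso
    apply h.hz1
    have : z * z = z * 1 := by rw [h1, mul_one]
    exact mul_left_cancel this

theorem comm' {x y : Q} (hxy : x * y ≠ y * x) : x * y = z * (y * x) :=
  (h.comm x y).resolve_left hxy

theorem comm'' {x y : Q} (hxy : x * y ≠ y * x) : y * x = z * (x * y) :=
  h.comm' (fun e => hxy e.symm)

/-- an element with square `z` is not central -/
theorem not_central {v : Q} (hv : v * v = z) : ¬ ∀ x : Q, x * v = v * x := by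
  intro hc
  rcases h.cen v hc with h1 | h1
  · rw [h1, mul_one] at hv
    exact h.hz1 hv.symm
  · rw [h1, h.zz] at hv
    exact h.hz1 hv.symm

/-- the product of two elements not commuting with `v` commutes with `v` -/
theorem mul_comm_of_not {v x y : Q} (hx : x * v ≠ v * x) (hy : y * v ≠ v * y) :
    x * y * v = v * (x * y) := by
  calc x * y * v = x * (y * v) := by rw [mul_assoc]
    _ = x * (z * (v * y)) := by rw [h.comm' hy]
    _ = z * (x * v) * y := by
        rw [← mul_assoc x z, h.hzc x, mul_assoc z x, ← mul_assoc x v y, mul_assoc z]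
    _ = z * (z * (v * x)) * y := by rw [h.comm' hx]
    _ = (z * z) * (v * (x * y)) := by simp only [mul_assoc]
    _ = v * (x * y) := by rw [h.zz, one_mul]

end XS

open Classical in
/-- the transvection: `x ↦ x` if `x` commutes with `v`, `x ↦ x v` otherwise -/
noncomputable def tauFun (v x : Q) : Q := if x * v = v * x then x else x * v

theorem tauFun_of_comm {v x : Q} (hx : x * v = v * x) : tauFun v x = x := by
  unfold tauFun; rw [if_pos hx]

theorem tauFun_of_not {v x : Q} (hx : x * v ≠ v * x) : tauFun v x = x * v := by
  unfold tauFun; rw [if_neg hx]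

namespace XS

variable {z : Q} (h : XS z)
include h

theorem tauFun_mul {v : Q} (hv : v * v = z) (x y : Q) :
    tauFun v (x * y) = tauFun v x * tauFun v y := by
  by_cases hx : x * v = v * x
  · by_cases hy : y * v = v * y
    · have hxy : x * y * v = v * (x * y) := by
        rw [mul_assoc, hy, ← mul_assoc, hx, mul_assoc]
      rw [tauFun_of_comm hx, tauFun_of_comm hy, tauFun_of_comm hxy]
    · have hxy : x * y * v ≠ v * (x * y) := by
        intro e
        apply hy
        have : x * (y * v) = x * (v * y) := by
          rw [← mul_assoc, e, ← mul_assoc, ← hx, mul_assoc]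
        exact mul_left_cancel this
      rw [tauFun_of_comm hx, tauFun_of_not hy, tauFun_of_not hxy, mul_assoc]
  · by_cases hy : y * v = v * y
    · have hxy : x * y * v ≠ v * (x * y) := by
        intro e
        apply hx
        have : x * v * y = v * x * y := by
          rw [mul_assoc x v y, ← hy, ← mul_assoc, e, mul_assoc]
        exact mul_right_cancel this
      rw [tauFun_of_not hx, tauFun_of_comm hy, tauFun_of_not hxy, mul_assoc x y v, hy,
        ← mul_assoc]
    · have hxy := h.mul_comm_of_not hx hy
      rw [tauFun_of_not hx, tauFun_of_not hy, tauFun_of_comm hxy]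
      have hvy : v * y = z * (y * v) := h.comm'' hy
      calc x * y = (z * z) * (x * y) := by rw [h.zz, one_mul]
        _ = x * (z * y) * z := by
            symm
            calc x * (z * y) * z = (x * z) * y * z := by simp only [mul_assoc]
              _ = (z * x) * y * z := by rw [h.hzc x]
              _ = z * ((x * y) * z) := by simp only [mul_assoc]
              _ = z * (z * (x * y)) := by rw [h.hzc (x * y)]
              _ = (z * z) * (x * y) := by rw [mul_assoc]
        _ = x * (z * y) * (v * v) := by rw [hv]
        _ = x * (z * (y * v)) * v := by simp only [mul_assoc]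
        _ = x * (v * y) * v := by rw [hvy]
        _ = x * v * (y * v) := by simp only [mul_assoc]

/-- the transvection as an endomorphism -/
noncomputable def tauHom {v : Q} (hv : v * v = z) : Q →* Q :=
  MonoidHom.mk' (tauFun v) (h.tauFun_mul hv)

theorem tauHom_apply {v : Q} (hv : v * v = z) (x : Q) : h.tauHom hv x = tauFun v x := rfl

theorem tau_tau {v : Q} (hv : v * v = z) (x : Q) : tauFun v (tauFun v x) = v * x * v⁻¹ := by
  by_cases hx : x * v = v * x
  · rw [tauFun_of_comm hx, tauFun_of_comm hx, ← hx, mul_assoc, mul_inv_cancel, mul_one]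
  · have hvx : v * x = z * (x * v) := h.comm'' hx
    have h1 : v * (x * v) = x := by
      rw [← mul_assoc, hvx, mul_assoc z, mul_assoc x v v, hv, ← mul_assoc, ← h.hzc x, mul_assoc,
        h.zz, mul_one]
    have h2 : x * v * v ≠ v * (x * v) := by
      rw [h1, mul_assoc, hv]
      intro e
      apply h.hz1
      have : x * z = x * 1 := by rw [e, mul_one]
      exact mul_left_cancel this
    rw [tauFun_of_not hx, tauFun_of_not h2, hvx, mul_assoc x v v, hv, mul_assoc z, mul_assoc x v,
      mul_inv_cancel, mul_one, h.hzc]

theorem tauHom_bijective {v : Q} (hv : v * v = z) : Function.Bijective (h.tauHom hv) := by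
  constructor
  · intro x y hxy
    have h1 : tauFun v (tauFun v x) = tauFun v (tauFun v y) := by
      rw [← h.tauHom_apply hv x, ← h.tauHom_apply hv y, hxy]
    rw [h.tau_tau hv, h.tau_tau hv] at h1
    exact mul_left_cancel (mul_right_cancel h1)
  · intro y
    refine ⟨tauFun v (v⁻¹ * y * v), ?_⟩
    rw [tauHom_apply, h.tau_tau hv]
    group

/-- the transvection automorphism -/
noncomputable def tau {v : Q} (hv : v * v = z) : MulAut Q :=
  MulEquiv.ofBijective (h.tauHom hv) (h.tauHom_bijective hv)

theorem tau_apply {v : Q} (hv : v * v = z) (x : Q) : h.tau hv x = tauFun v x := rfl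

theorem tau_sq {v : Q} (hv : v * v = z) : h.tau hv * h.tau hv = MulAut.conj v := by
  ext x
  rw [MulAut.mul_apply, tau_apply, tau_apply, h.tau_tau hv, MulAut.conj_apply]

theorem tau_comm {v w : Q} (hv : v * v = z) (hw : w * w = z) (hvw : v * w = w * v) :
    h.tau hv * h.tau hw = h.tau hw * h.tau hv := by
  ext x
  rw [MulAut.mul_apply, MulAut.mul_apply, tau_apply, tau_apply, tau_apply, tau_apply]
  by_cases hxv : x * v = v * x
  · by_cases hxw : x * w = w * x
    · rw [tauFun_of_comm hxw, tauFun_of_comm hxv, tauFun_of_comm hxw]
    · have h1 : x * w * v = v * (x * w) := by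
        rw [mul_assoc, ← hvw, ← mul_assoc, hxv, mul_assoc]
      rw [tauFun_of_not hxw, tauFun_of_comm hxv, tauFun_of_comm h1, tauFun_of_not hxw]
  · by_cases hxw : x * w = w * x
    · have h1 : x * v * w = w * (x * v) := by
        rw [mul_assoc, hvw, ← mul_assoc, hxw, mul_assoc]
      rw [tauFun_of_comm hxw, tauFun_of_not hxv, tauFun_of_comm h1]
    · have h1 : x * v * w ≠ w * (x * v) := by
        intro e
        apply hxw
        have : x * w * v = w * x * v := by
          rw [mul_assoc x w v, ← hvw, ← mul_assoc, e, mul_assoc]
        exact mul_right_cancel this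
      have h2 : x * w * v ≠ v * (x * w) := by
        intro e
        apply hxv
        have : x * v * w = v * x * w := by
          rw [mul_assoc x v w, hvw, ← mul_assoc, e, mul_assoc]
        exact mul_right_cancel this
      rw [tauFun_of_not hxw, tauFun_of_not hxv, tauFun_of_not h2, tauFun_of_not h1, mul_assoc,
        mul_assoc, hvw]

end XS

/-- automorphisms move inner automorphisms to inner automorphisms -/
theorem aut_mul_conj (α : MulAut Q) (b : Q) : α * MulAut.conj b = MulAut.conj (α b) * α := by
  ext x
  simp only [MulAut.mul_apply, MulAut.conj_apply, map_mul, map_inv]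

theorem conj_eq_one_iff (g : Q) : MulAut.conj g = 1 ↔ ∀ x : Q, x * g = g * x := by
  constructor
  · intro hg x
    have := congrArg (fun α : MulAut Q => α x) hg
    simp only [MulAut.conj_apply, MulAut.one_apply] at this
    calc x * g = (g * x * g⁻¹) * g := by rw [this]
      _ = g * x := by group
  · intro hg
    ext x
    rw [MulAut.conj_apply, MulAut.one_apply, ← hg x]
    group

end Cfsg.Agent.Lib.Helper5.Xaut
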