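import Mathlib
import Cfsg.Agent.Lib.Helper5.Xaut.A1

set_option autoImplicit false
set_option linter.unusedSectionVars false
set_option linter.style.haveILetI false

/-!
# The inner automorphism group of an extraspecial 2-group of width at least three has
no complement in the automorphism group
-/

namespace Cfsg.Agent.Lib.Helper5.Xaut

open scoped commutatorElement

variable {Q : Type*} [Group Q]

namespace XS

variable {z : Q} (h : XS z)
include h

theorem z_mem_center : z ∈ Subgroup.center Q := Subgroup.mem_center_iff.mpr h.hzc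

theorem comm_central (x y : Q) : ⁅x, y⁆ ∈ Subgroup.center Q := by
  rw [commutatorElement_def]
  rcases h.comm x y with e | e
  · rw [e]
    have : y * x * x⁻¹ * y⁻¹ = 1 := by group
    rw [this]
    exact Subgroup.one_mem _
  · rw [e]
    have : z * (y * x) * x⁻¹ * y⁻¹ = z := by group
    rw [this]
    exact h.z_mem_center

theorem sq_central (x : Q) : x * x ∈ Subgroup.center Q := by
  rcases h.sq x with e | e
  · rw [e]; exact Subgroup.one_mem _
  · rw [e]; exact h.z_mem_center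

theorem not_central' {v : Q} (hv : v * v = z) : v ∉ Subgroup.center Q := by
  intro hc
  exact h.not_central hv (Subgroup.mem_center_iff.mp hc)

variable (L : Subgroup (MulAut Q))
  (hdisj : ∀ g : Q, MulAut.conj g ∈ L → MulAut.conj g = 1)
include hdisj

theorem not_comm_of_mem {v : Q} (hv : v * v = z) (a : Q)
    (ha : MulAut.conj a * h.tau hv ∈ L) : a * v ≠ v * a := by
  intro hav
  have h1 : (MulAut.conj a * h.tau hv) * (MulAut.conj a * h.tau hv) =
      MulAut.conj (a * a * v) := by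
    have e1 : (MulAut.conj a * h.tau hv) * (MulAut.conj a * h.tau hv) =
        MulAut.conj a * (h.tau hv * MulAut.conj a) * h.tau hv := by
      simp only [mul_assoc]
    rw [e1, aut_mul_conj, h.tau_apply, tauFun_of_comm hav]
    have e2 : MulAut.conj a * (MulAut.conj a * h.tau hv) * h.tau hv =
        MulAut.conj a * MulAut.conj a * (h.tau hv * h.tau hv) := by
      simp only [mul_assoc]
    rw [e2, h.tau_sq, ← map_mul, ← map_mul]
  have h2 : MulAut.conj (a * a * v) ∈ L := by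
    rw [← h1]
    exact L.mul_mem ha ha
  have h3 := (conj_eq_one_iff _).mp (hdisj _ h2)
  have h4 : a * a * v ∈ Subgroup.center Q := Subgroup.mem_center_iff.mpr h3
  have h5 : v = (a * a)⁻¹ * (a * a * v) := by group
  apply h.not_central' hv
  rw [h5]
  exact Subgroup.mul_mem _ (Subgroup.inv_mem _ (h.sq_central a)) h4

theorem comm_of_mem {v w : Q} (hv : v * v = z) (hw : w * w = z) (hvw : v * w = w * v)
    (hind : v * w⁻¹ ∉ Subgroup.center Q) (a b : Q)
    (ha : MulAut.conj a * h.tau hv ∈ L) (hb : MulAut.conj b * h.tau hw ∈ L) :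
    a * w = w * a := by
  by_contra haw
  have e1 : (MulAut.conj a * h.tau hv) * (MulAut.conj b * h.tau hw) =
      MulAut.conj (a * tauFun v b) * (h.tau hv * h.tau hw) := by
    have : (MulAut.conj a * h.tau hv) * (MulAut.conj b * h.tau hw) =
        MulAut.conj a * (h.tau hv * MulAut.conj b) * h.tau hw := by
      simp only [mul_assoc]
    rw [this, aut_mul_conj, h.tau_apply, map_mul]
    simp only [mul_assoc]
  have e2 : (MulAut.conj b * h.tau hw) * (MulAut.conj a * h.tau hv) =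
      MulAut.conj (b * tauFun w a) * (h.tau hv * h.tau hw) := by
    have : (MulAut.conj b * h.tau hw) * (MulAut.conj a * h.tau hv) =
        MulAut.conj b * (h.tau hw * MulAut.conj a) * h.tau hv := by
      simp only [mul_assoc]
    rw [this, aut_mul_conj, h.tau_apply, map_mul, h.tau_comm hv hw hvw]
    simp only [mul_assoc]
  have e3 : ((MulAut.conj a * h.tau hv) * (MulAut.conj b * h.tau hw)) *
      ((MulAut.conj b * h.tau hw) * (MulAut.conj a * h.tau hv))⁻¹ =
      MulAut.conj (a * tauFun v b * (b * tauFun w a)⁻¹) := by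
    have e0 : MulAut.conj (a * tauFun v b * (b * tauFun w a)⁻¹) =
        MulAut.conj (a * tauFun v b) * (MulAut.conj (b * tauFun w a))⁻¹ := by
      rw [map_mul, map_inv]
    rw [e1, e2, e0]
    group
  have h2 : MulAut.conj (a * tauFun v b * (b * tauFun w a)⁻¹) ∈ L := by
    rw [← e3]
    exact L.mul_mem (L.mul_mem ha hb) (L.inv_mem (L.mul_mem hb ha))
  have h3 := (conj_eq_one_iff _).mp (hdisj _ h2)
  have h4 : a * tauFun v b * (b * tauFun w a)⁻¹ ∈ Subgroup.center Q :=
    Subgroup.mem_center_iff.mpr h3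
  rw [tauFun_of_not haw] at h4
  by_cases hbv : b * v = v * b
  · rw [tauFun_of_comm hbv] at h4
    have h5 : w⁻¹ = ⁅a * b, w⁻¹⁆⁻¹ * (a * b * (b * (a * w))⁻¹) * ⁅a, b⁆⁻¹ := by
      simp only [commutatorElement_def]
      group
    apply h.not_central' hw
    have h6 : w⁻¹ ∈ Subgroup.center Q := by
      rw [h5]
      exact Subgroup.mul_mem _ (Subgroup.mul_mem _ (Subgroup.inv_mem _ (h.comm_central _ _)) h4)
        (Subgroup.inv_mem _ (h.comm_central _ _))
    have := Subgroup.inv_mem _ h6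
    rwa [inv_inv] at this
  · rw [tauFun_of_not hbv] at h4
    have h5 : v * w⁻¹ = ⁅a * b, v * w⁻¹⁆⁻¹ * (a * (b * v) * (b * (a * w))⁻¹) * ⁅a, b⁆⁻¹ := by
      simp only [commutatorElement_def]
      group
    apply hind
    rw [h5]
    exact Subgroup.mul_mem _ (Subgroup.mul_mem _ (Subgroup.inv_mem _ (h.comm_central _ _)) h4)
      (Subgroup.inv_mem _ (h.comm_central _ _))

end XS

theorem XS.no_complement {z : Q} (h : XS z) (v₁ v₂ v₃ : Q)
    (h1 : v₁ * v₁ = z) (h2 : v₂ * v₂ = z) (h3 : v₃ * v₃ = z)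
    (c12 : v₁ * v₂ = v₂ * v₁) (c13 : v₁ * v₃ = v₃ * v₁) (c23 : v₂ * v₃ = v₃ * v₂)
    (i12 : v₁ * v₂⁻¹ ∉ Subgroup.center Q) (i13 : v₁ * v₃⁻¹ ∉ Subgroup.center Q)
    (i23 : v₂ * v₃ ∉ Subgroup.center Q) (L : Subgroup (MulAut Q)) :
    ¬ (MulAut.conj : Q →* MulAut Q).range.IsComplement' L := by
  intro hL
  have hdisj : ∀ g : Q, MulAut.conj g ∈ L → MulAut.conj g = 1 := by
    intro g hg
    have h0 : MulAut.conj g ∈ (MulAut.conj : Q →* MulAut Q).range ⊓ L := ⟨⟨g, rfl⟩, hg⟩
    rw [hL.disjoint.eq_bot] at h0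
    exact Subgroup.mem_bot.mp h0
  have hdec : ∀ α : MulAut Q, ∃ a : Q, MulAut.conj a * α ∈ L := by
    intro α
    obtain ⟨x, hx, -⟩ := Subgroup.IsComplement.existsUnique hL α
    obtain ⟨b, hb⟩ := x.1.2
    refine ⟨b⁻¹, ?_⟩
    have : MulAut.conj b⁻¹ * α = (x.2 : MulAut Q) := by
      rw [← hx, ← hb, map_inv]
      group
    rw [this]
    exact x.2.2
  set v₄ := v₁ * v₂ * v₃ with hv₄
  have C12 : Commute v₁ v₂ := c12
  have C13 : Commute v₁ v₃ := c13
  have C23 : Commute v₂ v₃ := c23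
  have h4 : v₄ * v₄ = z := by
    have e : v₄ * v₄ = (v₁ * v₁) * (v₂ * v₂) * (v₃ * v₃) := by
      rw [hv₄]
      calc v₁ * v₂ * v₃ * (v₁ * v₂ * v₃) = v₁ * v₂ * (v₃ * v₁) * v₂ * v₃ := by
            simp only [mul_assoc]
        _ = v₁ * v₂ * (v₁ * v₃) * v₂ * v₃ := by rw [c13]
        _ = v₁ * (v₂ * v₁) * (v₃ * v₂) * v₃ := by simp only [mul_assoc]
        _ = v₁ * (v₁ * v₂) * (v₂ * v₃) * v₃ := by rw [c12, c23]
        _ = (v₁ * v₁) * (v₂ * v₂) * (v₃ * v₃) := by simp only [mul_assoc]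
    rw [e, h1, h2, h3, h.zz, one_mul]
  have c14 : v₁ * v₄ = v₄ * v₁ := by
    have : Commute v₁ v₄ := ((Commute.refl v₁).mul_right C12).mul_right C13
    exact this
  have i14 : v₁ * v₄⁻¹ ∉ Subgroup.center Q := by
    intro hc
    apply i23
    have e : v₂ * v₃ = (v₁⁻¹ * (v₁ * v₄⁻¹) * v₁⁻¹⁻¹)⁻¹ := by
      rw [hv₄]; group
    rw [e]
    exact Subgroup.inv_mem _ ((Subgroup.center Q).normal_of_characteristic.conj_mem _ hc _)
  obtain ⟨a₁, ha₁⟩ := hdec (h.tau h1)
  obtain ⟨a₂, ha₂⟩ := hdec (h.tau h2)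
  obtain ⟨a₃, ha₃⟩ := hdec (h.tau h3)
  obtain ⟨a₄, ha₄⟩ := hdec (h.tau h4)
  have n1 := h.not_comm_of_mem L hdisj h1 a₁ ha₁
  have k2 : Commute a₁ v₂ := h.comm_of_mem L hdisj h1 h2 c12 i12 a₁ a₂ ha₁ ha₂
  have k3 : Commute a₁ v₃ := h.comm_of_mem L hdisj h1 h3 c13 i13 a₁ a₃ ha₁ ha₃
  have k4 : Commute a₁ v₄ := h.comm_of_mem L hdisj h1 h4 c14 i14 a₁ a₄ ha₁ ha₄
  apply n1
  have e : v₁ = v₄ * v₃⁻¹ * v₂⁻¹ := by rw [hv₄]; group
  have : Commute a₁ v₁ := by
    rw [e]
    exact (k4.mul_right k3.inv_right).mul_right k2.inv_right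
  exact this

end Cfsg.Agent.Lib.Helper5.Xaut
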