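import Mathlib
import Cfsg.Prelude.Def_Transfer
import Cfsg.Agent.Lib.Lead.Frattini
import Cfsg.Agent.Lib.Helper5.Xaut.A2

set_option autoImplicit false
set_option linter.unusedSectionVars false
set_option linter.style.haveILetI false

/-!
# Extraspecial 2-groups of width at least three: three independent commuting elements of
order four, and the non-splitting of the automorphism group
-/

namespace Cfsg.Agent.Lib.Helper5.Xaut

open scoped commutatorElement Pointwise

variable {Q : Type*} [Group Q]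

theorem exists_XS [Finite Q] (hQ : Cfsg.IsExtraspecial 2 Q) : ∃ z : Q, XS z := by
  obtain ⟨⟨hP2, hfr, hcomm⟩, hZcard⟩ := hQ
  obtain ⟨⟨z, hzZ⟩, hzne, hzuniq⟩ := (Nat.card_eq_two_iff' (1 : Subgroup.center Q)).mp hZcard
  have hz1 : z ≠ 1 := fun h => hzne (Subtype.ext h)
  have hZtwo : ∀ w ∈ Subgroup.center Q, w = 1 ∨ w = z := by
    intro w hw
    by_cases hw1 : w = 1
    · exact Or.inl hw1
    · right
      have := hzuniq ⟨w, hw⟩ (fun h => hw1 (congrArg Subtype.val h))
      exact congrArg Subtype.val this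
  refine ⟨z, hz1, Subgroup.mem_center_iff.mp hzZ, ?_, ?_, ?_⟩
  · intro w hw
    exact hZtwo w (Subgroup.mem_center_iff.mpr hw)
  · intro x
    haveI : Fact (Nat.Prime 2) := ⟨Nat.prime_two⟩
    have h1 := Cfsg.Agent.Lib.Lead.pow_mem_frattini_of_isPGroup hP2 x
    rw [hfr, pow_two] at h1
    exact hZtwo _ h1
  · intro x y
    have h1 : ⁅x, y⁆ ∈ commutator Q := by
      rw [commutator_def]
      exact Subgroup.commutator_mem_commutator (Subgroup.mem_top x) (Subgroup.mem_top y)
    rw [hcomm] at h1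
    rcases hZtwo _ h1 with e | e
    · left
      rw [commutatorElement_def] at e
      calc x * y = (x * y * x⁻¹ * y⁻¹) * (y * x) := by group
        _ = y * x := by rw [e, one_mul]
    · right
      rw [commutatorElement_def] at e
      calc x * y = (x * y * x⁻¹ * y⁻¹) * (y * x) := by group
        _ = z * (y * x) := by rw [e]

namespace XS

variable {z : Q} (h : XS z)
include h

theorem index_centralizer_le (v : Q) : (Subgroup.centralizer {v}).index ≤ 2 := by
  by_cases hc : ∀ x : Q, x * v = v * x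
  · have : Subgroup.centralizer {v} = ⊤ := by
      rw [eq_top_iff]
      intro x _
      exact Subgroup.mem_centralizer_singleton_iff.mpr (hc x)
    rw [this, Subgroup.index_top]
    norm_num
  · push_neg at hc
    obtain ⟨a, ha⟩ := hc
    have : (Subgroup.centralizer {v}).index = 2 := by
      rw [Subgroup.index_eq_two_iff]
      refine ⟨a, fun b => ?_⟩
      by_cases hb : b * v = v * b
      · right
        refine ⟨Subgroup.mem_centralizer_singleton_iff.mpr hb, ?_⟩
        intro hba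
        rw [Subgroup.mem_centralizer_singleton_iff] at hba
        apply ha
        have : b * (a * v) = b * (v * a) := by
          rw [← mul_assoc, hba, ← mul_assoc, ← hb, mul_assoc]
        exact mul_left_cancel this
      · left
        refine ⟨Subgroup.mem_centralizer_singleton_iff.mpr (h.mul_comm_of_not hb ha), ?_⟩
        intro hb'
        exact hb (Subgroup.mem_centralizer_singleton_iff.mp hb')
    rw [this]

theorem exists_sq [Finite Q] (v₁ : Q) (h1 : v₁ * v₁ = z) (C : Subgroup Q)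
    (hC : ∀ x ∈ C, x * v₁ = v₁ * x) (hv₁C : v₁ ∈ C) (T : Set Q) (hT : T.ncard < Nat.card C)
    (hTcl : ∀ x, x * v₁ ∈ T → x ∈ T) : ∃ v ∈ C, v * v = z ∧ v ∉ T := by
  have hT' : T.ncard < (C : Set Q).ncard := by
    rw [← Nat.card_coe_set_eq (C : Set Q)]
    exact hT
  obtain ⟨w, hwC, hwT⟩ := Set.exists_mem_notMem_of_ncard_lt_ncard hT' (Set.toFinite T)
  rcases h.sq w with e | e
  · refine ⟨w * v₁, C.mul_mem hwC hv₁C, ?_, fun hmem => hwT (hTcl w hmem)⟩
    have hwv := hC w hwC
    calc w * v₁ * (w * v₁) = w * (v₁ * w) * v₁ := by simp only [mul_assoc]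
      _ = w * (w * v₁) * v₁ := by rw [hwv]
      _ = (w * w) * (v₁ * v₁) := by simp only [mul_assoc]
      _ = z := by rw [e, h1, one_mul]
  · exact ⟨w, hwC, e, hwT⟩

theorem exists_first [Finite Q] (hcard : 2 < Nat.card Q) : ∃ v : Q, v * v = z := by
  -- some element is neither `1` nor `z`
  have hT' : ({1, z} : Set Q).ncard < (Set.univ : Set Q).ncard := by
    rw [Set.ncard_univ]
    calc ({1, z} : Set Q).ncard ≤ 2 := by
          have := Set.ncard_insert_le (1 : Q) ({z} : Set Q)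
          rw [Set.ncard_singleton] at this
          exact this
      _ < Nat.card Q := hcard
  obtain ⟨w, -, hw⟩ := Set.exists_mem_notMem_of_ncard_lt_ncard hT' (Set.toFinite _)
  have hw1 : w ≠ 1 := fun e => hw (by rw [e]; exact Set.mem_insert _ _)
  have hwz : w ≠ z := fun e => hw (by rw [e]; exact Set.mem_insert_of_mem _ rfl)
  have hnc : ¬ ∀ x : Q, x * w = w * x := by
    intro hc
    rcases h.cen w hc with e | e
    · exact hw1 e
    · exact hwz e
  push_neg at hnc
  obtain ⟨x, hx⟩ := hnc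
  by_contra hcon
  push_neg at hcon
  have hx2 : x * x = 1 := (h.sq x).resolve_right (hcon x)
  have hw2 : w * w = 1 := (h.sq w).resolve_right (hcon w)
  have hxw2 : (x * w) * (x * w) = 1 := (h.sq (x * w)).resolve_right (hcon (x * w))
  apply hx
  have e1 : x⁻¹ = x := inv_eq_of_mul_eq_one_right hx2
  have e2 : w⁻¹ = w := inv_eq_of_mul_eq_one_right hw2
  have e3 : (x * w)⁻¹ = x * w := inv_eq_of_mul_eq_one_right hxw2
  rw [mul_inv_rev, e1, e2] at e3
  exact e3.symm

end XS

theorem pow_four_of_sq {z v : Q} (h : XS z) (hv : v * v = z) : v ^ 4 = 1 := by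
  have : v ^ 4 = (v * v) * (v * v) := by
    rw [show 4 = 2 + 2 from rfl, pow_add, pow_two]
  rw [this, hv, h.zz]

theorem card_zpowers_le {z v : Q} (h : XS z) (hv : v * v = z) :
    Nat.card (Subgroup.zpowers v) ≤ 4 := by
  rw [Nat.card_zpowers]
  exact orderOf_le_of_pow_eq_one (by norm_num) (pow_four_of_sq h hv)

theorem z_mem_zpowers {z v : Q} (hv : v * v = z) : z ∈ Subgroup.zpowers v := by
  rw [← hv, ← pow_two]
  exact Subgroup.pow_mem _ (Subgroup.mem_zpowers v) 2

/-- three independent commuting elements of order four -/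
theorem XS.exists_three [Finite Q] {z : Q} (h : XS z) (hcard : 128 ≤ Nat.card Q) :
    ∃ v₁ v₂ v₃ : Q, v₁ * v₁ = z ∧ v₂ * v₂ = z ∧ v₃ * v₃ = z ∧
      v₁ * v₂ = v₂ * v₁ ∧ v₁ * v₃ = v₃ * v₁ ∧ v₂ * v₃ = v₃ * v₂ ∧
      v₁ * v₂⁻¹ ∉ Subgroup.center Q ∧ v₁ * v₃⁻¹ ∉ Subgroup.center Q ∧
      v₂ * v₃ ∉ Subgroup.center Q := by
  obtain ⟨v₁, h1⟩ := h.exists_first (by omega)
  have hcen : ∀ c ∈ Subgroup.center Q, c ∈ Subgroup.zpowers v₁ := by
    intro c hc
    rcases h.cen c (Subgroup.mem_center_iff.mp hc) with e | e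
    · rw [e]; exact Subgroup.one_mem _
    · rw [e]; exact z_mem_zpowers h1
  -- the second element
  have hC₁card : 64 ≤ Nat.card (Subgroup.centralizer {v₁}) := by
    have e1 := Subgroup.card_mul_index (Subgroup.centralizer {v₁})
    have e2 := h.index_centralizer_le v₁
    nlinarith
  obtain ⟨v₂, hv₂C, h2, hv₂T⟩ := h.exists_sq v₁ h1 (Subgroup.centralizer {v₁})
    (fun x hx => Subgroup.mem_centralizer_singleton_iff.mp hx)
    (Subgroup.mem_centralizer_singleton_iff.mpr rfl)
    (Subgroup.zpowers v₁ : Set Q)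
    (by
      rw [← Nat.card_coe_set_eq]
      have := card_zpowers_le h h1
      change Nat.card (Subgroup.zpowers v₁) < _
      omega)
    (by
      intro x hx
      have : x = x * v₁ * v₁⁻¹ := by group
      rw [this]
      exact Subgroup.mul_mem _ hx (Subgroup.inv_mem _ (Subgroup.mem_zpowers v₁)))
  have c12 : v₁ * v₂ = v₂ * v₁ := (Subgroup.mem_centralizer_singleton_iff.mp hv₂C).symm
  -- the third element
  set C₂ := Subgroup.centralizer {v₁} ⊓ Subgroup.centralizer {v₂} with hC₂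
  have hC₂card : 32 ≤ Nat.card C₂ := by
    have e1 := Subgroup.card_mul_index C₂
    have e2 : C₂.index ≤ 4 := by
      calc C₂.index ≤ (Subgroup.centralizer {v₁}).index * (Subgroup.centralizer {v₂}).index :=
            Subgroup.index_inf_le
        _ ≤ 2 * 2 := Nat.mul_le_mul (h.index_centralizer_le v₁) (h.index_centralizer_le v₂)
    nlinarith
  set T₂ : Set Q := (Subgroup.zpowers v₁ : Set Q) * (Subgroup.zpowers v₂ : Set Q) with hT₂
  have hT₂card : T₂.ncard ≤ 16 := by
    rw [← Nat.card_coe_set_eq]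
    calc Nat.card ↑T₂ ≤ Nat.card ↑(Subgroup.zpowers v₁ : Set Q) *
          Nat.card ↑(Subgroup.zpowers v₂ : Set Q) := Set.natCard_mul_le
      _ ≤ 4 * 4 := Nat.mul_le_mul (card_zpowers_le h h1) (card_zpowers_le h h2)
  have hcomm_zp : ∀ b ∈ Subgroup.zpowers v₂, v₁ * b = b * v₁ := by
    intro b hb
    obtain ⟨k, rfl⟩ := Subgroup.mem_zpowers_iff.mp hb
    have : Commute v₁ v₂ := c12
    exact (this.zpow_right k)
  obtain ⟨v₃, hv₃C, h3, hv₃T⟩ := h.exists_sq v₁ h1 C₂
    (fun x hx => Subgroup.mem_centralizer_singleton_iff.mp hx.1)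
    ⟨Subgroup.mem_centralizer_singleton_iff.mpr rfl,
      Subgroup.mem_centralizer_singleton_iff.mpr c12⟩
    T₂ (by omega)
    (by
      intro x hx
      obtain ⟨a, ha, b, hb, hab⟩ := Set.mem_mul.mp hx
      refine Set.mem_mul.mpr ⟨a * v₁⁻¹, Subgroup.mul_mem _ ha
        (Subgroup.inv_mem _ (Subgroup.mem_zpowers v₁)), b, hb, ?_⟩
      have e1 : v₁⁻¹ * b = b * v₁⁻¹ := by
        have := hcomm_zp b hb
        calc v₁⁻¹ * b = v₁⁻¹ * (b * v₁) * v₁⁻¹ := by group
          _ = v₁⁻¹ * (v₁ * b) * v₁⁻¹ := by rw [this]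
          _ = b * v₁⁻¹ := by group
      show a * v₁⁻¹ * b = x
      calc a * v₁⁻¹ * b = a * (v₁⁻¹ * b) := by rw [mul_assoc]
        _ = a * b * v₁⁻¹ := by rw [e1, mul_assoc]
        _ = x * v₁ * v₁⁻¹ := by rw [hab]
        _ = x := by group)
  have c13 : v₁ * v₃ = v₃ * v₁ := (Subgroup.mem_centralizer_singleton_iff.mp hv₃C.1).symm
  have c23 : v₂ * v₃ = v₃ * v₂ := (Subgroup.mem_centralizer_singleton_iff.mp hv₃C.2).symm
  refine ⟨v₁, v₂, v₃, h1, h2, h3, c12, c13, c23, ?_, ?_, ?_⟩
  · intro hc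
    apply hv₂T
    have e : v₂ = (v₁ * v₂⁻¹)⁻¹ * v₁ := by group
    show v₂ ∈ Subgroup.zpowers v₁
    rw [e]
    exact Subgroup.mul_mem _ (Subgroup.inv_mem _ (hcen _ hc)) (Subgroup.mem_zpowers v₁)
  · intro hc
    apply hv₃T
    have e : v₃ = ((v₁ * v₃⁻¹)⁻¹ * v₁) * 1 := by group
    rw [e]
    exact Set.mem_mul.mpr ⟨_, Subgroup.mul_mem _ (Subgroup.inv_mem _ (hcen _ hc))
      (Subgroup.mem_zpowers v₁), 1, Subgroup.one_mem _, rfl⟩
  · intro hc
    apply hv₃T
    have e : v₃ = (v₂ * v₃) * v₂⁻¹ := by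
      rw [c23]; group
    rw [e]
    exact Set.mem_mul.mpr ⟨_, hcen _ hc, v₂⁻¹, Subgroup.inv_mem _ (Subgroup.mem_zpowers v₂), rfl⟩

/-- the inner automorphism group of an extraspecial 2-group of order at least `2⁷` has no
complement in the automorphism group -/
theorem no_complement_of_extraspecial [Finite Q] (hQ : Cfsg.IsExtraspecial 2 Q)
    (hcard : 128 ≤ Nat.card Q) (L : Subgroup (MulAut Q)) :
    ¬ (MulAut.conj : Q →* MulAut Q).range.IsComplement' L := by
  obtain ⟨z, h⟩ := exists_XS hQ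
  obtain ⟨v₁, v₂, v₃, h1, h2, h3, c12, c13, c23, i12, i13, i23⟩ := h.exists_three hcard
  exact h.no_complement v₁ v₂ v₃ h1 h2 h3 c12 c13 c23 i12 i13 i23 L

end Cfsg.Agent.Lib.Helper5.Xaut
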